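import Mathlib
import Groth.Prelude.Def_HTop
import Groth.Agent.ColimFP.Basic
import Groth.Agent.HTopV.Sheaf

set_option autoImplicit false
set_option backward.isDefEq.respectTransparency false
set_option backward.isDefEq.respectTransparency.types false

/-!
Affine schemes over an affine base as cofiltered limits of finitely presented ones; h sheaves over `S`
which commute with cofiltered limits of affine schemes are V sheaves.
-/

universe w w' v u

open CategoryTheory CategoryTheory.Limits AlgebraicGeometry Opposite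

namespace Groth.Agent.HTopVLim

theorem exists_fp_limit {X Z : Scheme.{u}} [IsAffine X] [IsAffine Z] (q : X ⟶ Z) :
    ∃ (I : Type u) (_ : SmallCategory I) (_ : IsCofiltered I) (D : I ⥤ Over Z) (c : Cone D)
      (_ : IsLimit ((Over.forget Z).mapCone c)) (_ : c.pt ≅ Over.mk q),
      (∀ i, IsAffine (D.obj i).left) ∧ ∀ i, LocallyOfFinitePresentation (D.obj i).hom := by
  classical
  let R : Type u := Γ(Z, ⊤)
  let A : Type u := Γ(X, ⊤)
  letI : Algebra R A := q.appTop.hom.toAlgebra
  let d := ColimFP.diag R A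
  let cc := ColimFP.cocone R A
  let D : (ColimFP.Idx R A)ᵒᵖ ⥤ Over Z :=
    { obj := fun i => Over.mk (Spec.map (d.obj i.unop).hom ≫ Z.isoSpec.inv)
      map := fun {i j} f => Over.homMk (Spec.map (d.map f.unop).right) (by
        simp only [Over.mk_hom, ← Spec.map_comp_assoc, Under.w])
      map_id := fun i => by ext1; simp
      map_comp := fun f g => by ext1; simp [← Spec.map_comp] }
  have hw : ∀ i, Spec.map (cc.ι.app i).right ≫ Spec.map (d.obj i).hom = Spec.map cc.pt.hom := fun i => by
    rw [← Spec.map_comp, Under.w]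
    rfl
  let c : Cone D :=
    { pt := Over.mk (Spec.map cc.pt.hom ≫ Z.isoSpec.inv)
      π :=
        { app := fun i => Over.homMk (Spec.map (cc.ι.app i.unop).right)
            (by
              simp only [D, Over.mk_hom, ← Category.assoc, hw]
              try rfl)
          naturality := fun i j f => by
            apply Over.OverMorphism.ext
            show (𝟙 (Spec cc.pt.right)) ≫ Spec.map (cc.ι.app j.unop).right =
              Spec.map (cc.ι.app i.unop).right ≫ Spec.map (d.map f.unop).right
            rw [Category.id_comp, ← Spec.map_comp]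
            congr 1
            exact (congrArg CommaMorphism.right (cc.w f.unop)).symm } }
  haveI : IsConnected (ColimFP.Idx R A) := IsFiltered.isConnected _
  have h1 : IsColimit ((Under.forget (CommRingCat.of R)).mapCocone cc) :=
    isColimitOfPreserves _ (ColimFP.isColimit R A)
  have h2 : IsLimit (Scheme.Spec.mapCone ((Under.forget (CommRingCat.of R)).mapCocone cc).op) :=
    isLimitOfPreserves Scheme.Spec h1.op
  have hc : IsLimit ((Over.forget Z).mapCone c) := h2
  refine ⟨(ColimFP.Idx R A)ᵒᵖ, inferInstance, inferInstance, D, c, hc, ?_, ?_, ?_⟩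
  · refine Over.isoMk (X.isoSpec.symm) ?_
    show X.isoSpec.inv ≫ q = Spec.map q.appTop ≫ Z.isoSpec.inv
    rw [Iso.inv_comp_eq, ← Category.assoc, Scheme.isoSpec_hom, ← Scheme.toSpecΓ_naturality,
      Category.assoc, ← Scheme.isoSpec_hom, Iso.hom_inv_id, Category.comp_id]
  · exact fun i => inferInstanceAs (IsAffine (Spec _))
  · intro i
    have : LocallyOfFinitePresentation (Spec.map (d.obj i.unop).hom) :=
      (HasRingHomProperty.Spec_iff (P := @LocallyOfFinitePresentation)).mpr
        ((RingHom.finitePresentation_algebraMap (A := R) (B := ColimFP.alg i.unop)).mpr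
          (ColimFP.finitePresentation i.unop) :)
    exact inferInstanceAs (LocallyOfFinitePresentation (Spec.map (d.obj i.unop).hom ≫ Z.isoSpec.inv))

theorem isSeparatedFor_of_le {C : Type v} [Category.{w'} C] {F : Cᵒᵖ ⥤ Type w} {X : C}
    {R R' : Presieve X} (h : R ≤ R') (hR : Presieve.IsSeparatedFor F R) :
    Presieve.IsSeparatedFor F R' := fun x t₁ t₂ h₁ h₂ =>
  hR (fun _ g hg => x g (h _ _ hg)) t₁ t₂ (fun _ g hg => h₁ g (h _ _ hg))
    (fun _ g hg => h₂ g (h _ _ hg))

section Over

variable {S : Scheme.{u}} {F : (Over S)ᵒᵖ ⥤ Type w}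

universe v'

theorem isSheafFor_openCover_over (h1 : HTop.IsHSheafOver S F) (Y : Over S)
    (E : PreZeroHypercover.{v'} Y.left) [∀ i, IsOpenImmersion (E.f i)]
    (hE : ∀ y : Y.left, ∃ i, y ∈ Set.range (E.f i)) :
    Presieve.IsSheafFor F (Presieve.ofArrows (fun i => Over.mk (E.f i ≫ Y.hom))
      fun i => (Over.homMk (E.f i) : Over.mk (E.f i ≫ Y.hom) ⟶ Y)) := by
  refine h1 _ ?_
  rw [Presieve.map_ofArrows]
  exact (HTop.presieve₀_mem_hPrecoverage_iff E).mpr
    ⟨fun i => inferInstance, Groth.Agent.HTopV.isVCover_of_isOpenImmersion E hE⟩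

theorem isSheaf_zariski_over (h1 : HTop.IsHSheafOver S F) :
    Presieve.IsSheaf (Scheme.zariskiTopology.over S) F := by
  intro X T hT
  rw [GrothendieckTopology.mem_over_iff] at hT
  obtain ⟨R, hR, hle⟩ := Precoverage.mem_toGrothendieck_iff_of_isStableUnderComposition.mp hT
  obtain ⟨𝒰, rfl⟩ := Precoverage.mem_iff_exists_zeroHypercover.mp hR
  haveI : ∀ i, IsOpenImmersion (𝒰.f i) := fun i => Scheme.Cover.map_prop 𝒰 i
  have hU : ∀ x : X.left, ∃ i, x ∈ Set.range (𝒰.f i) := fun x => Scheme.Cover.exists_eq 𝒰 x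
  let R₀ : Sieve X := Sieve.generate (Presieve.ofArrows (fun i => Over.mk (𝒰.f i ≫ X.hom))
    fun i => (Over.homMk (𝒰.f i) : Over.mk (𝒰.f i ≫ X.hom) ⟶ X))
  have hR₀T : R₀ ≤ T := by
    refine Sieve.generate_le_iff _ _ |>.mpr ?_
    rintro _ _ ⟨i⟩
    exact (Sieve.overEquiv_iff _ _).mp (hle _ _ ⟨i⟩)
  refine Presieve.isSheafFor_trans F R₀ T ((Presieve.isSheafFor_iff_generate _).mp (isSheafFor_openCover_over h1 X _ hU))
    ?_ ?_
  · intro Y₁ g₁ _
    let E := PreZeroHypercover.pullback₁ g₁.left 𝒰.toPreZeroHypercover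
    haveI : ∀ i, IsOpenImmersion (E.f i) := fun i =>
      inferInstanceAs (IsOpenImmersion (pullback.fst g₁.left (𝒰.f i)))
    have hE : ∀ y : Y₁.left, ∃ i, y ∈ Set.range (E.f i) := fun y => by
      obtain ⟨i, hi⟩ := hU (g₁.left y)
      refine ⟨i, ?_⟩
      show y ∈ Set.range (pullback.fst g₁.left (𝒰.f i))
      rw [Scheme.Pullback.range_fst]
      exact hi
    refine isSeparatedFor_of_le ?_ (isSheafFor_openCover_over h1 Y₁ E hE).isSeparatedFor
    intro W a ha
    obtain ⟨i⟩ := ha
    refine ⟨Over.mk (𝒰.f i ≫ X.hom), (Over.homMk (pullback.snd g₁.left (𝒰.f i)) ?_), _, ⟨i⟩, ?_⟩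
    · show pullback.snd g₁.left (𝒰.f i) ≫ 𝒰.f i ≫ X.hom = pullback.fst g₁.left (𝒰.f i) ≫ Y₁.hom
      rw [← pullback.condition_assoc, Over.w]
    · apply Over.OverMorphism.ext
      exact pullback.condition.symm
  · intro Y f hf
    rw [T.pullback_eq_top_of_mem (hR₀T _ hf)]
    exact Presieve.isSheafFor_top _

theorem generate_affine_mem_over (X : Over S) :
    Sieve.generate (fun Z (_ : Z ⟶ X) => IsAffine Z.left) ∈ (Scheme.zariskiTopology.over S) X := by
  rw [GrothendieckTopology.mem_over_iff]
  refine GrothendieckTopology.superset_covering _ ?_ (Groth.Agent.HTopV.generate_affine_mem X.left)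
  rw [Sieve.generate_le_iff]
  intro Z g hZ
  rw [Sieve.overEquiv_iff]
  exact Sieve.le_generate _ _ _ hZ

theorem isSheafFor_singleton_standardV (h1 : HTop.IsHSheafOver S F)
    (h2 : ∀ (I : Type u) [SmallCategory I] [IsCofiltered I] (D : I ⥤ Over S),
      (∀ i, IsAffine (D.obj i).left) → ∀ (c : Cone D), IsLimit ((Over.forget S).mapCone c) →
        Nonempty (IsColimit (F.mapCocone c.op)))
    {Z X : Over S} (q : X ⟶ Z)
    (hq : HTop.IsStandardV (PreZeroHypercover.singleton.{0} q.left)) :
    Presieve.IsSheafFor F (Presieve.singleton q) := by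
  haveI : IsAffine Z.left := hq.isAffine
  haveI : IsAffine X.left := hq.isAffine_obj PUnit.unit
  obtain ⟨I, _, _, D, c, hc, e, hDa, hDf⟩ := exists_fp_limit q.left
  haveI := hDa
  let D' : I ⥤ Over S := D ⋙ Over.map Z.hom
  let π : ∀ i, X.left ⟶ (D.obj i).left := fun i => e.inv.left ≫ (c.π.app i).left
  have hπ : ∀ i, π i ≫ (D.obj i).hom = q.left := fun i => by
    simp only [π, Category.assoc, Over.w]
    exact Over.w e.inv
  let qi : ∀ i, D'.obj i ⟶ Z := fun i => Over.homMk (D.obj i).hom rfl
  have hqi : ∀ {i j} (a : i ⟶ j), D'.map a ≫ qi j = qi i := fun a => by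
    apply Over.OverMorphism.ext
    exact Over.w (D.map a)
  let c₁ : Cone D' :=
    { pt := X
      π :=
        { app := fun i => Over.homMk (π i) (by
            show π i ≫ (D.obj i).hom ≫ Z.hom = X.hom
            rw [reassoc_of% hπ i, Over.w])
          naturality := fun i j a => by
            apply Over.OverMorphism.ext
            show 𝟙 X.left ≫ π j = π i ≫ (D.map a).left
            simp only [π, Category.id_comp, Category.assoc, ← Over.comp_left, c.w] } }
  have hl₁ : IsLimit ((Over.forget S).mapCone c₁) :=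
    IsLimit.ofIsoLimit hc (Cone.ext ((Over.forget Z.left).mapIso e) fun i => by
      show (c.π.app i).left = e.hom.left ≫ e.inv.left ≫ (c.π.app i).left
      rw [← Category.assoc, ← Over.comp_left, Iso.hom_inv_id, Over.id_left, Category.id_comp])
  have hπq : ∀ i, c₁.π.app i ≫ qi i = q := fun i => by
    apply Over.OverMorphism.ext
    exact hπ i
  -- the self products
  let D₂ : I ⥤ Over S :=
    { obj := fun i => Over.mk (pullback.fst (D.obj i).hom (D.obj i).hom ≫ (D.obj i).hom ≫ Z.hom)
      map := fun {i j} a => Over.homMk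
        (pullback.map _ _ _ _ (D.map a).left (D.map a).left (𝟙 _) (by simp) (by simp)) (by
          simp [pullback.map, Over.w_assoc])
      map_id := fun i => by
        apply Over.OverMorphism.ext
        apply pullback.hom_ext <;> simp
      map_comp := fun a b => by
        apply Over.OverMorphism.ext
        apply pullback.hom_ext <;> simp }
  let pr₁ : ∀ i, D₂.obj i ⟶ D'.obj i := fun i =>
    Over.homMk (pullback.fst (D.obj i).hom (D.obj i).hom) rfl
  let pr₂ : ∀ i, D₂.obj i ⟶ D'.obj i := fun i =>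
    Over.homMk (pullback.snd (D.obj i).hom (D.obj i).hom) (by
      simp only [D₂, Over.mk_hom, pullback.condition_assoc]
      rfl)
  let P : Over S := Over.mk (pullback.fst q.left q.left ≫ X.hom)
  let p₁ : P ⟶ X := Over.homMk (pullback.fst q.left q.left) rfl
  let p₂ : P ⟶ X := Over.homMk (pullback.snd q.left q.left) (by
    simp only [P, Over.mk_hom]
    rw [← Over.w q, pullback.condition_assoc])
  let l : ∀ i, P ⟶ D₂.obj i := fun i => Over.homMk
    (pullback.map _ _ _ _ (π i) (π i) (𝟙 _) (by simp [hπ]) (by simp [hπ])) (by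
      simp [P, D₂, pullback.map, reassoc_of% hπ i, Over.w])
  let c₂ : Cone D₂ :=
    { pt := P
      π :=
        { app := l
          naturality := fun i j a => by
            apply Over.OverMorphism.ext
            have hn : π i ≫ (D.map a).left = π j := by
              simp only [π, Category.assoc, ← Over.comp_left, c.w]
            apply pullback.hom_ext <;> simp [l, D₂, hn] } }
  haveI : Nonempty I := IsCofiltered.nonempty
  have hl₂ : IsLimit ((Over.forget S).mapCone c₂) := by
    let s₁ : ∀ s : Cone (D₂ ⋙ Over.forget S), Cone (D' ⋙ Over.forget S) := fun s =>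
      { pt := s.pt
        π :=
          { app := fun i => s.π.app i ≫ pullback.fst _ _
            naturality := fun i j a => by
              have := s.w a
              show 𝟙 s.pt ≫ s.π.app j ≫ pullback.fst _ _ =
                (s.π.app i ≫ pullback.fst _ _) ≫ (D.map a).left
              rw [← this]
              simp [D₂] } }
    let s₂ : ∀ s : Cone (D₂ ⋙ Over.forget S), Cone (D' ⋙ Over.forget S) := fun s =>
      { pt := s.pt
        π :=
          { app := fun i => s.π.app i ≫ pullback.snd _ _
            naturality := fun i j a => by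
              have := s.w a
              show 𝟙 s.pt ≫ s.π.app j ≫ pullback.snd _ _ =
                (s.π.app i ≫ pullback.snd _ _) ≫ (D.map a).left
              rw [← this]
              simp [D₂] } }
    have f₁ : ∀ s i, hl₁.lift (s₁ s) ≫ π i = s.π.app i ≫ pullback.fst _ _ := fun s i =>
      hl₁.fac (s₁ s) i
    have f₂ : ∀ s i, hl₁.lift (s₂ s) ≫ π i = s.π.app i ≫ pullback.snd _ _ := fun s i =>
      hl₁.fac (s₂ s) i
    refine { lift := fun s => pullback.lift (hl₁.lift (s₁ s)) (hl₁.lift (s₂ s)) ?_, fac := ?_, uniq := ?_ }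
    · rw [← hπ (Classical.arbitrary I), reassoc_of% f₁, reassoc_of% f₂, pullback.condition]
    · intro s i
      show pullback.lift _ _ _ ≫ (l i).left = _
      apply pullback.hom_ext <;> simp [l, f₁, f₂]
    · intro s m hm
      have hm' : ∀ i, m ≫ (l i).left = s.π.app i := hm
      apply pullback.hom_ext
      · rw [pullback.lift_fst]
        refine hl₁.uniq (s₁ s) _ fun i => ?_
        show (m ≫ pullback.fst _ _) ≫ π i = s.π.app i ≫ pullback.fst _ _
        rw [← hm' i]
        simp [l]
      · rw [pullback.lift_snd]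
        refine hl₁.uniq (s₂ s) _ fun i => ?_
        show (m ≫ pullback.snd _ _) ≫ π i = s.π.app i ≫ pullback.snd _ _
        rw [← hm' i]
        simp [l]
  obtain ⟨hF₁⟩ := h2 I D' (fun i => hDa i) c₁ hl₁
  haveI : ∀ i, IsAffine (D₂.obj i).left := fun i =>
    inferInstanceAs (IsAffine (pullback (D.obj i).hom (D.obj i).hom))
  obtain ⟨hF₂⟩ := h2 I D₂ this c₂ hl₂
  have hsh : ∀ i, Presieve.IsSheafFor F (Presieve.singleton (qi i)) := fun i => by
    refine h1 _ ?_
    rw [Presieve.map_singleton]
    suffices hm : (PreZeroHypercover.singleton.{0} (D.obj i).hom).presieve₀ ∈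
        HTop.hPrecoverage Z.left by
      rw [PreZeroHypercover.presieve₀_singleton] at hm
      exact hm
    refine (HTop.presieve₀_mem_hPrecoverage_iff _).mpr
      ⟨fun _ => hDf i, Groth.Agent.HTopV.isVCover_of_isStandardV
        ⟨inferInstance, inferInstanceAs (Finite PUnit), fun _ => hDa i, fun V _ _ g => ?_⟩⟩
    obtain ⟨W, i1, i2, φ, hφ, j, g', hg'⟩ := hq.lift V g
    refine ⟨W, i1, i2, φ, hφ, PUnit.unit, ((g' : Spec W ⟶ X.left) ≫ π i : Spec W ⟶ (D.obj i).left), ?_⟩
    show ((g' : Spec W ⟶ X.left) ≫ π i) ≫ (D.obj i).hom = _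
    rw [Category.assoc, hπ]
    exact hg'
  rw [Presieve.isSheafFor_singleton]
  intro x hx
  obtain ⟨⟨i⟩, xi, rfl⟩ := Types.jointly_surjective_of_isColimit hF₁ x
  have hcond : p₁ ≫ q = p₂ ≫ q := by
    apply Over.OverMorphism.ext
    exact pullback.condition
  have hk : ∀ (k : I), l k ≫ pr₁ k = p₁ ≫ c₁.π.app k ∧ l k ≫ pr₂ k = p₂ ≫ c₁.π.app k := fun k =>
    ⟨by apply Over.OverMorphism.ext; simp [l, pr₁, p₁, c₁],
     by apply Over.OverMorphism.ext; simp [l, pr₂, p₂, c₁]⟩
  have hpp : F.map (l i).op (F.map (pr₁ i).op xi) = F.map (l i).op (F.map (pr₂ i).op xi) := by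
    simp only [← Functor.map_comp_apply, ← op_comp]
    rw [(hk i).1, (hk i).2]
    simp only [op_comp, Functor.map_comp_apply]
    exact hx p₁ p₂ hcond
  obtain ⟨⟨j⟩, a, ha⟩ := (Types.FilteredColimit.isColimit_eq_iff' hF₂ (i := op i)
    (F.map (pr₁ i).op xi) (F.map (pr₂ i).op xi)).mp hpp
  change F.map (D₂.map a.unop).op (F.map (pr₁ i).op xi) =
    F.map (D₂.map a.unop).op (F.map (pr₂ i).op xi) at ha
  have hn : D₂.map a.unop ≫ pr₁ i = pr₁ j ≫ D'.map a.unop ∧
      D₂.map a.unop ≫ pr₂ i = pr₂ j ≫ D'.map a.unop :=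
    ⟨by apply Over.OverMorphism.ext; simp [D₂, D', pr₁],
     by apply Over.OverMorphism.ext; simp [D₂, D', pr₂]⟩
  simp only [← Functor.map_comp_apply, ← op_comp] at ha
  rw [hn.1, hn.2] at ha
  simp only [op_comp, Functor.map_comp_apply] at ha
  obtain ⟨y, hy, -⟩ := Presieve.isSheafFor_singleton.mp (hsh j) (F.map (D'.map a.unop).op xi)
    fun {W} b₁ b₂ hb => by
      let b : W ⟶ D₂.obj j := Over.homMk
        (pullback.lift b₁.left b₂.left (congrArg CommaMorphism.left hb)) (by
          simp [D₂]; exact Over.w b₁)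
      have e₁ : b ≫ pr₁ j = b₁ := by apply Over.OverMorphism.ext; simp [b, pr₁]
      have e₂ : b ≫ pr₂ j = b₂ := by apply Over.OverMorphism.ext; simp [b, pr₂]
      rw [← e₁, ← e₂]
      simp only [op_comp, Functor.map_comp_apply]
      rw [ha]
  refine ⟨y, ?_, fun y' hy' => ?_⟩
  · show F.map q.op y = F.map (c₁.π.app i).op xi
    rw [← hπq j, op_comp, Functor.map_comp_apply, hy, ← Functor.map_comp_apply, ← op_comp, c₁.w]
    try rfl
  · have h3 : F.map (c₁.π.app j).op (F.map (qi j).op y') =
        F.map (c₁.π.app j).op (F.map (qi j).op y) := by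
      rw [← Functor.map_comp_apply, ← Functor.map_comp_apply, ← op_comp, hπq]
      refine hy'.trans ?_
      rw [← hπq j, op_comp, Functor.map_comp_apply, hy, ← Functor.map_comp_apply, ← op_comp, c₁.w]
      rfl
    obtain ⟨⟨k⟩, a', ha'⟩ := (Types.FilteredColimit.isColimit_eq_iff' hF₁ (i := op j)
      (F.map (qi j).op y') (F.map (qi j).op y)).mp h3
    change F.map (D'.map a'.unop).op (F.map (qi j).op y') =
      F.map (D'.map a'.unop).op (F.map (qi j).op y) at ha'
    rw [← Functor.map_comp_apply, ← Functor.map_comp_apply, ← op_comp, hqi] at ha'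
    exact (hsh k).isSeparatedFor.ext fun W f hf => by cases hf; exact ha'

theorem isSheafFor_pullback_singleton (h1 : HTop.IsHSheafOver S F)
    (h2 : ∀ (I : Type u) [SmallCategory I] [IsCofiltered I] (D : I ⥤ Over S),
      (∀ i, IsAffine (D.obj i).left) → ∀ (c : Cone D), IsLimit ((Over.forget S).mapCone c) →
        Nonempty (IsColimit (F.mapCocone c.op)))
    {Z X : Over S} (q : X ⟶ Z)
    (hq : HTop.IsStandardV (PreZeroHypercover.singleton.{0} q.left)) {Y : Over S} (g : Y ⟶ Z) :
    Presieve.IsSheafFor F ((Sieve.generate (Presieve.singleton q)).pullback g).arrows := by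
  refine Groth.Agent.HTopV.isSheafFor_of_pullback (isSheaf_zariski_over h1)
    (fun W => IsAffine W.left) generate_affine_mem_over _ fun W k hW => ?_
  haveI := hW
  let X' : Over S := Over.mk (pullback.fst (k ≫ g).left q.left ≫ W.hom)
  let q' : X' ⟶ W := Over.homMk (pullback.fst (k ≫ g).left q.left) rfl
  let r : X' ⟶ X := Over.homMk (pullback.snd (k ≫ g).left q.left) (by
    simp only [X', Over.mk_hom]
    rw [← Over.w q, ← pullback.condition_assoc, Over.w (k ≫ g)])
  have hr : r ≫ q = q' ≫ k ≫ g := by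
    apply Over.OverMorphism.ext
    exact pullback.condition.symm
  have e : ((Sieve.generate (Presieve.singleton q)).pullback g).pullback k =
      Sieve.generate (Presieve.singleton q') := by
    rw [← Sieve.pullback_comp]
    refine Sieve.ext fun V a => ⟨?_, ?_⟩
    · rintro ⟨_, b, _, ⟨⟩, hb⟩
      refine ⟨_, Over.homMk (pullback.lift a.left b.left (congrArg CommaMorphism.left hb).symm)
        ?_, _, Presieve.singleton_self _, ?_⟩
      · simp [X', Over.w a]
      · apply Over.OverMorphism.ext
        simp [q']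
    · rintro ⟨_, b, _, ⟨⟩, rfl⟩
      refine ⟨_, b ≫ r, _, Presieve.singleton_self _, ?_⟩
      rw [Category.assoc, Category.assoc, hr]
  rw [e]
  exact (Presieve.isSheafFor_iff_generate _).mp (isSheafFor_singleton_standardV h1 h2 q'
    (Groth.Agent.HTopV.isStandardV_pullback₁ (k ≫ g).left hq))

theorem isVSheafOver_of_limit (h1 : HTop.IsHSheafOver S F)
    (h2 : ∀ (I : Type u) [SmallCategory I] [IsCofiltered I] (D : I ⥤ Over S),
      (∀ i, IsAffine (D.obj i).left) → ∀ (c : Cone D), IsLimit ((Over.forget S).mapCone c) →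
        Nonempty (IsColimit (F.mapCocone c.op))) :
    HTop.IsVSheafOver S F := by
  intro X R hR
  obtain ⟨E, hE, hER⟩ := PreZeroHypercoverFamily.mem_precoverage_iff.mp hR
  rw [Presieve.isSheafFor_iff_generate]
  refine Groth.Agent.HTopV.isSheafFor_of_pullback (isSheaf_zariski_over h1)
    (fun W => IsAffine W.left) generate_affine_mem_over _ fun Z g hZ => ?_
  haveI := hZ
  obtain ⟨G, hG, hGE⟩ := Groth.Agent.HTopV.exists_isStandardV_refining g.left (E := E) hE
  let G' : PreZeroHypercover.{u} Z.left := G.reindex Equiv.ulift.{u}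
  have hG' : HTop.IsStandardV G' := Groth.Agent.HTopV.isStandardV_reindex hG _
  set T := (Sieve.generate R).pullback g with hT
  have hGT : ∀ j : G'.I₀, T (Over.homMk (G'.f j) : Over.mk (G'.f j ≫ Z.hom) ⟶ Z) := fun j => by
    obtain ⟨i, b, hb⟩ := hGE j.down
    have hm : R.map (Over.forget S) (E.f i) := by rw [hER]; exact ⟨i⟩
    revert b
    generalize E.f i = f at hm
    generalize E.X i = Xi at f hm
    obtain ⟨W, hW, r, hr, heq⟩ := Presieve.map_iff.mp hm
    subst hW
    rw [eqToHom_refl, Category.id_comp] at heq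
    subst heq
    intro b hb
    have hb' : b ≫ r.left = G'.f j ≫ g.left := hb
    refine ⟨_, Over.homMk b ?_, r, hr, ?_⟩
    · show b ≫ _ = G'.f j ≫ Z.hom
      rw [← Over.w r, reassoc_of% hb', Over.w g]
    · apply Over.OverMorphism.ext
      exact hb'
  haveI := hG'.finite_index
  let P : Over S := Over.mk (Sigma.desc G'.f ≫ Z.hom)
  let σ : P ⟶ Z := Over.homMk (Sigma.desc G'.f) rfl
  have hσ : HTop.IsStandardV (PreZeroHypercover.singleton.{0} σ.left) := by
    have := Groth.Agent.HTopV.isStandardV_reindex (Groth.Agent.HTopV.isStandardV_sigmaDesc hG')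
      (Equiv.punitEquivPUnit.{1, u + 1})
    exact ⟨this.1, this.2, this.3, this.4⟩
  have hcov : T.pullback σ ∈ (Scheme.zariskiTopology.over S) P := by
    rw [GrothendieckTopology.mem_over_iff]
    refine GrothendieckTopology.superset_covering _ ?_
      (sigmaOpenCover G'.X).mem_grothendieckTopology
    rw [Sieve.generate_le_iff]
    rintro _ _ ⟨j⟩
    rw [Sieve.overEquiv_iff]
    show T (_ ≫ σ)
    let u : Over.mk (Sigma.ι G'.X j ≫ P.hom) ⟶ Over.mk (G'.f j ≫ Z.hom) :=
      Over.homMk (𝟙 _) (by simp [P])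
    have := T.downward_closed (hGT j) u
    refine (congrArg (T.arrows (Y := _)) ?_).mpr this
    apply Over.OverMorphism.ext
    simp [σ, u]
    exact (Category.id_comp _).symm
  refine Presieve.isSheafFor_trans F (Sieve.generate (Presieve.singleton σ)) T
    ((Presieve.isSheafFor_iff_generate _).mp (isSheafFor_singleton_standardV h1 h2 σ hσ))
    (fun Y f _ => (isSheafFor_pullback_singleton h1 h2 σ hσ f).isSeparatedFor) ?_
  rintro Y f ⟨_, b, _, ⟨⟩, rfl⟩
  rw [Sieve.pullback_comp]
  exact isSheaf_zariski_over h1 _ (GrothendieckTopology.pullback_stable _ _ hcov)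

end Over

end Groth.Agent.HTopVLim
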