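import Mathlib
import Groth.Prelude.Def_HTop

set_option autoImplicit false
set_option backward.isDefEq.respectTransparency false
set_option backward.isDefEq.respectTransparency.types false

/-!
The lifting condition of V coverings, one valuation ring at a time, as a condition on global sections.
-/

universe w u

open CategoryTheory CategoryTheory.Limits AlgebraicGeometry Opposite

namespace Groth.Agent.HTopVLim

/-- Obstruction to lifting the valuation ring `V` through an algebra `φ : V → B`: some `φ s`, `s ≠ 0`,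
is a multiple of `φ (s * m)` with `m` in the maximal ideal. -/
def Bad {V B : Type u} [CommRing V] [CommRing B] (φ : V →+* B) : Prop :=
  ∃ (s m : V) (b : B), s ≠ 0 ∧ ¬ IsUnit m ∧ φ s = φ (s * m) * b

section ring

variable {V B : Type u} [CommRing V] [IsDomain V] [ValuationRing V] [CommRing B] (φ : V →+* B)

theorem not_bad_of_lift {W : Type u} [CommRing W] [IsDomain W] (ψ : B →+* W)
    (hinj : Function.Injective (ψ.comp φ)) (hloc : IsLocalHom (ψ.comp φ)) : ¬ Bad φ := by
  rintro ⟨s, m, b, hs, hm, h⟩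
  refine hm (hloc.map_nonunit m (IsUnit.of_mul_eq_one (ψ b) ?_))
  have h' := congrArg ψ h
  rw [map_mul, map_mul, map_mul, mul_assoc] at h'
  have hne : ψ (φ s) ≠ 0 := fun h0 => hs (hinj (by simpa using h0))
  exact mul_left_cancel₀ hne (by rw [mul_one]; exact h'.symm)

theorem exists_lift_of_not_bad (h : ¬ Bad φ) :
    ∃ (W : Type u) (_ : CommRing W) (_ : IsDomain W) (_ : ValuationRing W) (ψ : B →+* W),
      Function.Injective (ψ.comp φ) ∧ IsLocalHom (ψ.comp φ) := by
  classical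
  let J : Ideal B :=
    { carrier := {b | ∃ s : V, s ≠ 0 ∧ φ s * b = 0}
      add_mem' := by
        rintro a b ⟨s, hs, ha⟩ ⟨t, ht, hb⟩
        refine ⟨s * t, mul_ne_zero hs ht, ?_⟩
        rw [map_mul]; linear_combination φ t * ha + φ s * hb
      zero_mem' := ⟨1, one_ne_zero, mul_zero _⟩
      smul_mem' := by
        rintro c b ⟨s, hs, hb⟩
        refine ⟨s, hs, ?_⟩
        rw [smul_eq_mul]; linear_combination c * hb }
  let M : Ideal B := (IsLocalRing.maximalIdeal V).map φ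
  have hne : J ⊔ M ≠ ⊤ := by
    intro htop
    obtain ⟨x, ⟨s, hs, hx⟩, y, hy, hxy⟩ :=
      Submodule.mem_sup.mp ((Ideal.eq_top_iff_one _).mp htop)
    have key : ∀ z ∈ M, ∃ m : V, ¬ IsUnit m ∧ ∃ b, z = φ m * b := by
      intro z hz
      refine Submodule.span_induction ?_ ?_ ?_ ?_ hz
      · rintro _ ⟨m, hm, rfl⟩; exact ⟨m, hm, 1, (mul_one _).symm⟩
      · exact ⟨0, not_isUnit_zero, 0, by simp⟩
      · rintro z₁ z₂ - - ⟨m₁, h₁, b₁, rfl⟩ ⟨m₂, h₂, b₂, rfl⟩
        obtain ⟨d, hd⟩ := ValuationRing.cond m₁ m₂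
        rcases hd with hd | hd
        · exact ⟨m₁, h₁, b₁ + φ d * b₂, by rw [← hd, map_mul]; ring⟩
        · exact ⟨m₂, h₂, b₂ + φ d * b₁, by rw [← hd, map_mul]; ring⟩
      · rintro c z - ⟨m, hm, b, rfl⟩
        exact ⟨m, hm, c * b, by rw [smul_eq_mul]; ring⟩
    obtain ⟨m, hm, b, rfl⟩ := key y hy
    refine h ⟨s, m, b, hs, hm, ?_⟩
    rw [map_mul]
    linear_combination (norm := ring_nf) hx - φ s * hxy
  obtain ⟨Q, hQ, hle⟩ := Ideal.exists_le_maximal _ hne
  let S : Submonoid B := Q.primeCompl ⊔ (nonZeroDivisors V).map φ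
  have hdisj : Disjoint ((⊥ : Ideal B) : Set B) (S : Set B) := by
    rw [Set.disjoint_left]
    intro x hx hxS
    have hx0 : x = 0 := hx
    obtain ⟨c, hc, -, ⟨s, hs, rfl⟩, hcs⟩ := Submonoid.mem_sup.mp hxS
    exact hc (hle (le_sup_left (a := J) ⟨s, nonZeroDivisors.ne_zero hs, by
      rw [mul_comm]; exact hcs.trans hx0⟩))
  obtain ⟨q, hq, -, hqS⟩ := Ideal.exists_le_prime_disjoint _ S hdisj
  let K := FractionRing (B ⧸ q)
  let π : B →+* K := (algebraMap (B ⧸ q) K).comp (Ideal.Quotient.mk q)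
  have hker : ∀ x, π x = 0 → x ∈ q := fun x hx =>
    Ideal.Quotient.eq_zero_iff_mem.mp ((IsFractionRing.to_map_eq_zero_iff (K := K)).mp hx)
  have hI : Q.map π.rangeRestrict ≠ ⊤ := by
    intro htop
    obtain ⟨x, hx, hx1⟩ := (Ideal.mem_map_iff_of_surjective _ π.rangeRestrict_surjective).mp
      ((Ideal.eq_top_iff_one _).mp htop)
    have hmem : x - 1 ∈ q := hker _ (by
      rw [map_sub, map_one, sub_eq_zero]; exact congrArg Subtype.val hx1)
    have hqQ : x - 1 ∈ Q := by
      by_contra hn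
      exact Set.disjoint_left.mp hqS hmem (SetLike.le_def.mp le_sup_left hn)
    exact hQ.ne_top ((Ideal.eq_top_iff_one _).mpr (by simpa using Q.sub_mem hx hqQ))
  obtain ⟨W, hAW, hW⟩ := Ideal.image_subset_nonunits_valuationSubring _ hI
  let ψ : B →+* W := π.codRestrict W.toSubring fun x => hAW ⟨x, rfl⟩
  refine ⟨W, inferInstance, inferInstance, inferInstance, ψ, ?_, ⟨fun m hm => ?_⟩⟩
  · rw [injective_iff_map_eq_zero]
    intro s hs
    by_contra hs0
    exact Set.disjoint_left.mp hqS (hker _ (congrArg Subtype.val hs))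
      (SetLike.le_def.mp le_sup_right ⟨s, mem_nonZeroDivisors_of_ne_zero hs0, rfl⟩)
  · by_contra hn
    have hQm : φ m ∈ Q := hle (le_sup_right (a := J) (Ideal.mem_map_of_mem φ hn))
    obtain ⟨h1, h2⟩ := ValuationSubring.mem_nonunits_iff_exists_mem_maximalIdeal.mp
      (hW ⟨π.rangeRestrict (φ m), Ideal.mem_map_of_mem _ hQm, rfl⟩)
    exact h2 hm

end ring

section scheme

variable {P : Scheme.{u}} {V : CommRingCat.{u}}

/-- The map on global sections of a morphism to `Spec V`. -/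
noncomputable def gmap (q : P ⟶ Spec V) : V ⟶ Γ(P, ⊤) :=
  (Scheme.ΓSpecIso V).inv ≫ q.appTop

theorem gmap_comp {P' : Scheme.{u}} (a : P' ⟶ P) (q : P ⟶ Spec V) :
    gmap (a ≫ q) = gmap q ≫ a.appTop := by
  simp [gmap]

theorem gmap_map {W : CommRingCat.{u}} (φ : V ⟶ W) :
    gmap (Spec.map φ) = φ ≫ (Scheme.ΓSpecIso W).inv :=
  Scheme.ΓSpecIso_inv_naturality φ |>.symm

theorem exists_lift_iff [IsAffine P] [IsDomain V] [ValuationRing V] (q : P ⟶ Spec V) :
    (∃ (W : CommRingCat.{u}) (_ : IsDomain W) (_ : ValuationRing W) (φ : V ⟶ W),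
      HTop.IsExtVal V W φ ∧ ∃ g' : Spec W ⟶ P, g' ≫ q = Spec.map φ) ↔ ¬ Bad (gmap q).hom := by
  constructor
  · rintro ⟨W, _, _, φ, ⟨hinj, hloc⟩, g', hg'⟩
    let a : Γ(P, ⊤) ⟶ W := g'.appTop ≫ (Scheme.ΓSpecIso W).hom
    have hφ : a.hom.comp (gmap q).hom = φ.hom := by
      have := congrArg gmap hg'
      rw [gmap_comp, gmap_map] at this
      have h2 : gmap q ≫ a = φ := by
        simp only [a, ← Category.assoc, this]
        simp
      exact congrArg CommRingCat.Hom.hom h2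
    exact not_bad_of_lift _ a.hom (hφ ▸ hinj) (hφ ▸ hloc)
  · intro h
    obtain ⟨W, _, _, _, ψ, hinj, hloc⟩ := exists_lift_of_not_bad _ h
    refine ⟨.of W, ‹_›, ‹_›, gmap q ≫ CommRingCat.ofHom ψ, ⟨hinj, hloc⟩,
      Spec.map (CommRingCat.ofHom ψ) ≫ P.isoSpec.inv, ?_⟩
    rw [Spec.map_comp, Category.assoc]
    congr 1
    rw [Iso.inv_comp_eq, gmap, Spec.map_comp, ← Category.assoc, Scheme.isoSpec_hom,
      ← Scheme.toSpecΓ_naturality, Category.assoc]
    simp [toSpecΓ_SpecMap_ΓSpecIso_inv]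

end scheme

theorem hasValLift_singleton_iff {X T : Scheme.{u}} (f : X ⟶ T) :
    HTop.HasValLift (PreZeroHypercover.singleton.{w} f) ↔
      ∀ (V : CommRingCat.{u}) [IsDomain V] [ValuationRing V] (g : Spec V ⟶ T),
      ∃ (W : CommRingCat.{u}) (_ : IsDomain W) (_ : ValuationRing W) (φ : V ⟶ W),
        HTop.IsExtVal V W φ ∧ ∃ g' : Spec W ⟶ pullback f g, g' ≫ pullback.snd f g = Spec.map φ := by
  constructor
  · intro h V _ _ g
    obtain ⟨W, i1, i2, φ, hφ, j, g', hg'⟩ := h V g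
    let h' : Spec W ⟶ X := g'
    exact ⟨W, i1, i2, φ, hφ, pullback.lift h' (Spec.map φ) hg', pullback.lift_snd _ _ _⟩
  · intro h V _ _ g
    obtain ⟨W, i1, i2, φ, hφ, g', hg'⟩ := h V g
    refine ⟨W, i1, i2, φ, hφ, PUnit.unit, (g' ≫ pullback.fst f g : Spec W ⟶ X), ?_⟩
    show (g' ≫ pullback.fst f g) ≫ f = _
    rw [Category.assoc, pullback.condition, ← Category.assoc, hg']

/-- The lifting condition passes to cofiltered limits of affine schemes. -/
theorem hasValLift_of_isLimit {Y : Scheme.{u}} [IsAffine Y] {I : Type u} [SmallCategory I]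
    [IsCofiltered I] (D : I ⥤ Over Y) [∀ i, IsAffine (D.obj i).left] (c : Cone D)
    (hc : IsLimit ((Over.forget Y).mapCone c)) [IsAffine c.pt.left]
    (h : ∀ i, HTop.HasValLift (PreZeroHypercover.singleton.{w} (D.obj i).hom)) :
    HTop.HasValLift (PreZeroHypercover.singleton.{w} c.pt.hom) := by
  rw [hasValLift_singleton_iff]
  intro V _ _ g
  rw [exists_lift_iff]
  rintro ⟨s, m, b, hs, hm, heq⟩
  haveI : IsConnected I := IsCofiltered.isConnected I
  let G : Over Y ⥤ Scheme.{u} := Over.pullback g ⋙ Over.forget (Spec V)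
  let c' := G.mapCone c
  have hc' : IsLimit c' := isLimitOfPreserves G (isLimitOfReflects (Over.forget Y) hc)
  haveI : ∀ i, IsAffine ((D ⋙ G).obj i) := fun i =>
    inferInstanceAs (IsAffine (pullback (D.obj i).hom g))
  obtain ⟨i, t, ht⟩ := exists_appTop_π_eq_of_isAffine_of_isLimit (D ⋙ G) c' hc' b
  let q : ∀ i, (D ⋙ G).obj i ⟶ Spec V := fun i => pullback.snd (D.obj i).hom g
  have hπ : ∀ i, c'.π.app i ≫ q i = pullback.snd c.pt.hom g := fun i =>
    Over.w ((Over.pullback g).map (c.π.app i))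
  have hmap : ∀ {i j} (a : j ⟶ i), (D ⋙ G).map a ≫ q i = q j := fun a =>
    Over.w ((Over.pullback g).map (D.map a))
  let e : Γ((D ⋙ G).obj i, ⊤) := (gmap (q i)).hom s - (gmap (q i)).hom (s * m) * t
  have he : (c'.π.app i).appTop e = 0 := by
    have h1 : ∀ x, (c'.π.app i).appTop ((gmap (q i)).hom x) =
        (gmap (pullback.snd c.pt.hom g)).hom x := fun x => by
      rw [← hπ i, gmap_comp]; rfl
    rw [map_sub, map_mul, h1, h1, ht]
    exact sub_eq_zero.mpr heq
  obtain ⟨j, a, ha⟩ := exists_appTop_map_eq_zero_of_isAffine_of_isLimit (D ⋙ G) c' hc' i e he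
  have h2 : ∀ x, ((D ⋙ G).map a).appTop ((gmap (q i)).hom x) = (gmap (q j)).hom x := fun x => by
    rw [← hmap a, gmap_comp]; rfl
  rw [map_sub, map_mul, h2, h2, sub_eq_zero] at ha
  have hj := (hasValLift_singleton_iff _).mp (h j) V g
  rw [exists_lift_iff] at hj
  exact hj ⟨s, m, _, hs, hm, ha⟩

end Groth.Agent.HTopVLim
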